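import Groth.Agent.GrpSchLib.SepPoints
import Groth.Agent.S9435

/-! # Smooth morphisms have sections étale locally, through a given point of the image -/

set_option backward.isDefEq.respectTransparency false
set_option backward.isDefEq.respectTransparency.types false

universe u

open CategoryTheory AlgebraicGeometry TensorProduct

namespace Groth.Agent.SmoothSecLib

/-- Ring form: a standard smooth algebra has a section over some étale algebra through any prime
below it. -/
theorem exists_etale_section (R A : Type u) [CommRing R] [CommRing A] [Algebra R A]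
    [Algebra.IsStandardSmooth R A] (q : Ideal A) [q.IsPrime] :
    ∃ (R' : Type u) (_ : CommRing R') (_ : Algebra R R'), Algebra.Etale R R' ∧
      ∃ P : Ideal R', P.IsPrime ∧ P.comap (algebraMap R R') = q.comap (algebraMap R A) ∧
        Nonempty (A →ₐ[R] R') := by
  classical
  let p : Ideal R := q.comap (algebraMap R A)
  let k := p.ResidueField
  let K := SeparableClosure k
  let e : k →ₐ[R] q.ResidueField := Ideal.ResidueField.mapₐ p q (Algebra.ofId R A) rfl
  let Ω := AlgebraicClosure q.ResidueField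
  let : Algebra k Ω := ((algebraMap q.ResidueField Ω).comp e.toRingHom).toAlgebra
  have : IsScalarTower R k Ω := IsScalarTower.of_algebraMap_eq fun r => by
    show algebraMap R Ω r = algebraMap q.ResidueField Ω (e (algebraMap R k r))
    rw [e.commutes, ← IsScalarTower.algebraMap_apply]
  let iK : K →ₐ[k] Ω := IsAlgClosed.lift
  have : Nontrivial (K ⊗[R] A) :=
    RingHom.domain_nontrivial (Algebra.TensorProduct.lift (iK.restrictScalars R)
      (IsScalarTower.toAlgHom R A Ω) fun _ _ => Commute.all _ _).toRingHom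
  obtain ⟨π⟩ := GrpSchLib.exists_algHom_of_isStandardSmooth K (K ⊗[R] A)
  let a : A →ₐ[R] K := (π.restrictScalars R).comp Algebra.TensorProduct.includeRight
  obtain ⟨ι, σ, _, _, ⟨P⟩⟩ := ‹Algebra.IsStandardSmooth R A›.out
  have : Algebra.IsStandardSmoothOfRelativeDimension P.dimension R A :=
    ⟨ι, σ, inferInstance, inferInstance, P, rfl⟩
  obtain ⟨g, hg⟩ := Algebra.IsStandardSmoothOfRelativeDimension.exists_etale_mvPolynomial
    (n := P.dimension) R A
  let M := MvPolynomial (Fin P.dimension) R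
  let c : Fin P.dimension → K := fun i => a (g (MvPolynomial.X i))
  let L : IntermediateField k K := IntermediateField.adjoin k (Set.range c)
  have : Module.Finite k L := IntermediateField.finiteDimensional_adjoin fun x _ =>
    (Algebra.IsAlgebraic.isAlgebraic x).isIntegral
  obtain ⟨R₁, _, _, _, ψ, hψ⟩ := S9435.result R p L
  -- clear the denominators
  have hfrac : ∀ i, ∃ y z : R₁, ψ z ≠ 0 ∧ (ψ y : K) = c i * (ψ z : K) := by
    intro i
    have hmem : (⟨c i, IntermediateField.subset_adjoin k _ ⟨i, rfl⟩⟩ : L) ∈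
        Subfield.closure (Set.range ψ) := hψ ▸ trivial
    obtain ⟨y, hy, z, hz, hyz⟩ := Subfield.mem_closure_iff.1 hmem
    rw [← ψ.coe_toRingHom, ← RingHom.coe_range, Subring.closure_eq] at hy hz
    obtain ⟨y, rfl⟩ := hy
    obtain ⟨z, rfl⟩ := hz
    by_cases hz0 : ψ z = 0
    · refine ⟨0, 1, by simp, ?_⟩
      have : (⟨c i, IntermediateField.subset_adjoin k _ ⟨i, rfl⟩⟩ : L) = 0 := by
        rw [← hyz]; simp [hz0]
      have h0 : c i = 0 := congrArg Subtype.val this
      simp [h0]
    · refine ⟨y, z, hz0, ?_⟩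
      have h1 : ψ y = (⟨c i, IntermediateField.subset_adjoin k _ ⟨i, rfl⟩⟩ : L) * ψ z :=
        (div_eq_iff hz0).1 hyz
      exact congrArg Subtype.val h1
  choose y z hz hyz using hfrac
  let t : R₁ := ∏ i, z i
  have ht : ψ t ≠ 0 := by
    rw [map_prod]
    exact Finset.prod_ne_zero_iff.2 fun i _ => hz i
  let R₂ := Localization.Away t
  have hunit : ∀ w : Submonoid.powers t, IsUnit ((L.val.restrictScalars R).comp ψ w) := by
    rintro ⟨_, n, rfl⟩
    rw [map_pow]
    refine IsUnit.pow _ (IsUnit.mk0 _ fun h => ht ?_)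
    exact Subtype.ext h
  let ψ₂ : R₂ →ₐ[R] K := IsLocalization.liftAlgHom hunit
  have hψ₂ : ∀ r : R₁, ψ₂ (algebraMap R₁ R₂ r) = (ψ r : K) := fun r => IsLocalization.lift_eq _ r
  have hzu : ∀ i, IsUnit (algebraMap R₁ R₂ (z i)) := fun i =>
    isUnit_of_dvd_unit (map_dvd _ (Finset.dvd_prod_of_mem z (Finset.mem_univ i)))
      (IsLocalization.map_units R₂ (⟨t, Submonoid.mem_powers t⟩ : Submonoid.powers t))
  let b : Fin P.dimension → R₂ := fun i => algebraMap R₁ R₂ (y i) * ↑(hzu i).unit⁻¹
  have hb : ∀ i, ψ₂ (b i) = c i := by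
    intro i
    have h1 : ψ₂ (b i) * ψ₂ (algebraMap R₁ R₂ (z i)) = ψ₂ (algebraMap R₁ R₂ (y i)) := by
      rw [← map_mul, mul_assoc, IsUnit.val_inv_mul, mul_one]
    rw [hψ₂, hψ₂, hyz] at h1
    exact mul_right_cancel₀ (fun h => hz i (Subtype.ext h)) h1
  -- base change the étale map along the coordinates
  let : Algebra M A := g.toRingHom.toAlgebra
  have : IsScalarTower R M A := IsScalarTower.of_algebraMap_eq fun r => (g.commutes r).symm
  have : Algebra.Etale M A := hg
  let β : M →ₐ[R] R₂ := MvPolynomial.aeval b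
  let : Algebra M R₂ := β.toRingHom.toAlgebra
  have : IsScalarTower R M R₂ := IsScalarTower.of_algebraMap_eq fun r => (β.commutes r).symm
  let : Algebra M K := (ψ₂.comp β).toRingHom.toAlgebra
  have : IsScalarTower R M K := IsScalarTower.of_algebraMap_eq fun r => ((ψ₂.comp β).commutes r).symm
  have : Algebra.Etale R R₁ := ‹_›
  have : Algebra.Etale R₁ R₂ := Algebra.Etale.of_isLocalizationAway t
  have : Algebra.Etale R R₂ := Algebra.Etale.comp R R₁ R₂
  let R₃ := R₂ ⊗[M] A
  have : Algebra.Etale R R₃ := Algebra.Etale.comp R R₂ R₃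
  have hga : a.comp g = ψ₂.comp β := MvPolynomial.algHom_ext fun i => by
    show c i = ψ₂ (β (MvPolynomial.X i))
    rw [show β (MvPolynomial.X i) = b i from MvPolynomial.aeval_X b i, hb]
  let χ : R₃ →ₐ[M] K := Algebra.TensorProduct.lift (S := M)
    ({ ψ₂.toRingHom with commutes' := fun _ => rfl } : R₂ →ₐ[M] K)
    ({ a.toRingHom with commutes' := fun m => AlgHom.congr_fun hga m } : A →ₐ[M] K)
    fun _ _ => Commute.all _ _
  refine ⟨R₃, inferInstance, inferInstance, inferInstance, RingHom.ker χ.toRingHom,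
    RingHom.ker_isPrime _, ?_,
    ⟨(Algebra.TensorProduct.includeRight : A →ₐ[M] R₃).restrictScalars R⟩⟩
  ext r
  have hr : χ (algebraMap R R₃ r) = algebraMap R K r := by
    exact (χ.restrictScalars R).commutes r
  rw [Ideal.mem_comap, RingHom.mem_ker]
  change χ (algebraMap R R₃ r) = 0 ↔ r ∈ p
  rw [hr, IsScalarTower.algebraMap_apply R k K, map_eq_zero,
    Ideal.algebraMap_residueField_eq_zero]

/-- A smooth morphism has a section over some étale neighbourhood of any point of its image. -/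
theorem exists_etale_section_scheme {X S : Scheme.{u}} (f : X ⟶ S) [Smooth f] (x : X) :
    ∃ (S' : Scheme.{u}) (g : S' ⟶ S) (s' : S'), IsAffine S' ∧ Etale g ∧ g s' = f x ∧
      ∃ h : S' ⟶ X, h ≫ f = g := by
  obtain ⟨U, hU, V, hV, hx, e, hf⟩ := Smooth.exists_isStandardSmooth f x
  let φ := f.appLE U V e
  let : Algebra Γ(S, U) Γ(X, V) := φ.hom.toAlgebra
  have : Algebra.IsStandardSmooth Γ(S, U) Γ(X, V) := hf
  let q := hV.primeIdealOf ⟨x, hx⟩
  obtain ⟨R', _, _, het, P, hP, hPq, ⟨α⟩⟩ :=
    exists_etale_section Γ(S, U) Γ(X, V) q.asIdeal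
  let τ : Spec (CommRingCat.of R') ⟶ Spec Γ(S, U) :=
    Spec.map (CommRingCat.ofHom (algebraMap Γ(S, U) R'))
  have : Etale τ := by
    rw [HasRingHomProperty.Spec_iff (P := @Etale), CommRingCat.hom_ofHom, RingHom.etale_algebraMap]
    exact het
  refine ⟨Spec (CommRingCat.of R'), τ ≫ hU.fromSpec, ⟨P, hP⟩, inferInstance, inferInstance, ?_,
    Spec.map (CommRingCat.ofHom α.toRingHom) ≫ hV.fromSpec, ?_⟩
  · have h1 : τ ⟨P, hP⟩ = Spec.map φ q := PrimeSpectrum.ext hPq
    rw [Scheme.Hom.comp_apply, h1, ← Scheme.Hom.comp_apply,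
      IsAffineOpen.SpecMap_appLE_fromSpec f hU hV e, Scheme.Hom.comp_apply, hV.fromSpec_primeIdealOf]
  · rw [Category.assoc, ← IsAffineOpen.SpecMap_appLE_fromSpec f hU hV e, ← Spec.map_comp_assoc]
    congr 2
    ext r
    exact α.commutes r

end Groth.Agent.SmoothSecLib

namespace Groth.Agent.SmoothSecLib

/-- A smooth scheme over a field has points with values in finite separable extensions in every
nonempty open subset. -/
theorem exists_separable_point {k : Type u} [Field k] {X : Scheme.{u}}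
    (f : X ⟶ Spec (CommRingCat.of k)) [Smooth f] (O : X.Opens) {x : X} (hx : x ∈ O) :
    ∃ (k' : Type u) (_ : Field k') (_ : Algebra k k'), Module.Finite k k' ∧ Algebra.IsSeparable k k' ∧
      ∃ t : Spec (CommRingCat.of k') ⟶ X, t ≫ f = Spec.map (CommRingCat.ofHom (algebraMap k k')) ∧
        t (IsLocalRing.closedPoint k') ∈ O := by
  obtain ⟨S', g, s', hS', hg, -, h, hh⟩ := exists_etale_section_scheme (O.ι ≫ f) ⟨x, hx⟩
  let φ : CommRingCat.of k ⟶ Γ(S', ⊤) := Spec.preimage (S'.isoSpec.inv ≫ g)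
  have hφ : Spec.map φ = S'.isoSpec.inv ≫ g := Spec.map_preimage _
  let : Algebra k Γ(S', ⊤) := φ.hom.toAlgebra
  have : Algebra.Etale k Γ(S', ⊤) := by
    have h' : Etale (Spec.map φ) := by rw [hφ]; infer_instance
    rw [HasRingHomProperty.Spec_iff (P := @Etale)] at h'
    exact h'
  let P := (S'.isoSpec.hom s').asIdeal
  have : Module.Finite k Γ(S', ⊤) := Algebra.FormallyUnramified.finite_of_free k Γ(S', ⊤)
  have : P.IsPrime := (S'.isoSpec.hom s').2
  have : IsArtinianRing Γ(S', ⊤) := IsArtinianRing.of_finite k Γ(S', ⊤)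
  have : P.IsMaximal := IsArtinianRing.isMaximal_of_isPrime P
  let : Field (Γ(S', ⊤) ⧸ P) := Ideal.Quotient.field P
  have : Algebra.FormallyUnramified k (Γ(S', ⊤) ⧸ P) :=
    Algebra.FormallyUnramified.comp k Γ(S', ⊤) (Γ(S', ⊤) ⧸ P)
  refine ⟨Γ(S', ⊤) ⧸ P, inferInstance, inferInstance, Module.Finite.quotient k P,
    Algebra.FormallyUnramified.isSeparable k (Γ(S', ⊤) ⧸ P),
    Spec.map (CommRingCat.ofHom (Ideal.Quotient.mk P)) ≫ S'.isoSpec.inv ≫ h ≫ O.ι, ?_, ?_⟩
  · rw [Category.assoc, Category.assoc, Category.assoc, hh, ← hφ, ← Spec.map_comp]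
    rfl
  · exact (h _).2

end Groth.Agent.SmoothSecLib
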